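import Cfsg.Agent.Lib.SzEightGraph.Group

/-!
Elements of order 13 act fixed point freely on the matrix module.
-/

set_option autoImplicit false
set_option linter.unusedSectionVars false
set_option maxHeartbeats 800000
set_option linter.style.haveILetI false

namespace Cfsg.Agent.Lib.SzEightGraph

open Matrix Cfsg.Lie Cfsg.Agent.Lib.KnownA Cfsg.Agent.Lib.KnownA.Suz Cfsg.Agent.Lib.Recognition Polynomial

noncomputable section

variable (F : Type) [Field F] [Fintype F] [CharP F 2] [hF : Fact (Fintype.card F = 2 ^ (2 * 1 + 1))]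

variable {F}

theorem mem_sp (g : ↥(G F 1)) : g.1 ∈ Sp4 F := (mem_Sz_imp g.2).1

theorem sm_antiJ : sm (antiJ F) = antiJ F := by
  ext i j
  rw [sm_apply, Matrix.map_apply]
  fin_cases i <;> fin_cases j <;> simp [antiJ]

theorem sm_mul_gram (g : ↥(G F 1)) : (sm g.1.val)ᵀ * antiJ F * sm g.1.val = antiJ F := by
  have h := congrArg sm (sp4_gram (mem_sp g))
  rwa [map_mul, map_mul, sm_antiJ, sm_apply g.1.valᵀ, Matrix.transpose_map, ← sm_apply] at h

/-- An irreducible polynomial of degree at most four having a root of order 13 has degree four. -/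
theorem natDegree_eq_four {f : F[X]} (hf : Irreducible f) (h4 : f.natDegree ≤ 4)
    (h13 : f ∣ X ^ 13 - 1) (h1 : ¬ f ∣ X - 1) : f.natDegree = 4 := by
  haveI : Fact (Irreducible f) := ⟨hf⟩
  haveI : Fintype (AdjoinRoot f) :=
    haveI := Module.Finite.of_basis (AdjoinRoot.powerBasis hf.ne_zero).basis
    haveI := Module.finite_of_finite F (M := AdjoinRoot f)
    Fintype.ofFinite _
  have hc : Fintype.card (AdjoinRoot f) = 8 ^ f.natDegree := by
    rw [Module.card_eq_pow_finrank (K := F), (AdjoinRoot.powerBasis hf.ne_zero).finrank, hF.out,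
      AdjoinRoot.powerBasis_dim]
    norm_num
  set z := AdjoinRoot.root f with hz
  have hz13 : z ^ 13 = 1 := by
    have : AdjoinRoot.mk f (X ^ 13 - 1) = 0 := AdjoinRoot.mk_eq_zero.mpr h13
    rw [map_sub, map_pow, map_one, AdjoinRoot.mk_X, sub_eq_zero] at this
    exact this
  have hz1 : z ≠ 1 := fun e => h1 (AdjoinRoot.mk_eq_zero.mp (by
    rw [map_sub, map_one, AdjoinRoot.mk_X, ← hz, e, sub_self]))
  haveI : Fact (Nat.Prime 13) := ⟨by norm_num⟩
  have hz0 : z ≠ 0 := fun e => by rw [e] at hz13; simp at hz13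
  have ho : orderOf z = 13 := orderOf_eq_prime hz13 hz1
  have hd : 13 ∣ 8 ^ f.natDegree - 1 := by
    rw [← hc, ← ho]
    exact orderOf_dvd_of_pow_eq_one (FiniteField.pow_card_sub_one_eq_one z hz0)
  have hpos := hf.natDegree_pos
  interval_cases hn : f.natDegree <;> first | rfl | (norm_num at hd)

theorem sq_mem (c : F) (h : c ^ 2 = c) : c = 0 ∨ c = 1 := by
  rcases eq_or_ne c 0 with h0 | h0
  · exact Or.inl h0
  · right
    have : c * c = c * 1 := by rw [mul_one, ← sq, h]
    exact mul_left_cancel₀ h0 this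

theorem minpoly_facts {A : M F} (h13 : A ^ 13 = 1) (h1 : A ≠ 1) :
    Irreducible (minpoly F A) ∧ (minpoly F A).natDegree = 4 ∧
      (minpoly F A).map (sg F : F ≃+* F).toRingHom ≠ minpoly F A := by
  have hint : IsIntegral F A := Algebra.IsIntegral.isIntegral A
  have hdvd : minpoly F A ∣ X ^ 13 - 1 := minpoly.dvd F A (by simp [h13])
  have hsep : (X ^ 13 - 1 : F[X]).Separable := by
    refine X_pow_sub_one_separable_iff.mpr ?_
    intro h
    have h2 : (2 : F) = 0 := CharP.cast_eq_zero F 2
    have : ((13 : ℕ) : F) = 1 := by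
      norm_num
      linear_combination (6 : F) * h2
    rw [this] at h
    exact one_ne_zero h
  have hmon := minpoly.monic hint
  have hdeg : (minpoly F A).natDegree ≤ 4 := by
    have := natDegree_le_of_dvd (Matrix.minpoly_dvd_charpoly A) (A.charpoly_monic.ne_zero)
    rwa [Matrix.charpoly_natDegree_eq_dim, Fintype.card_fin] at this
  have hsq : Squarefree (minpoly F A) := (hsep.of_dvd hdvd).squarefree
  obtain ⟨f, hf, hfd, hf1⟩ : ∃ f, Irreducible f ∧ f ∣ minpoly F A ∧ ¬ f ∣ X - 1 := by
    have hX : Irreducible (X - 1 : F[X]) := by simpa using irreducible_X_sub_C (1 : F)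
    by_cases hd : (X - 1 : F[X]) ∣ minpoly F A
    · obtain ⟨ν, hν⟩ := hd
      have hν0 : ν ≠ 0 := fun e => hmon.ne_zero (by rw [hν, e, mul_zero])
      have hνu : ¬ IsUnit ν := fun hu => by
        have h := map_dvd (Polynomial.aeval A) (((associated_mul_unit_left (X - 1 : F[X]) ν hu).dvd) :
          (X - 1) * ν ∣ X - 1)
        rw [← hν, minpoly.aeval, zero_dvd_iff, map_sub, map_one, aeval_X, sub_eq_zero] at h
        exact h1 h
      obtain ⟨f, hf, hfν⟩ := WfDvdMonoid.exists_irreducible_factor hνu hν0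
      refine ⟨f, hf, hν ▸ hfν.mul_left _, fun hfX => hX.not_isUnit (hsq (X - 1) ?_)⟩
      rw [hν]
      exact mul_dvd_mul_left _ (((hf.associated_of_dvd hX hfX).symm.dvd).trans hfν)
    · obtain ⟨f, hf, hfd⟩ := WfDvdMonoid.exists_irreducible_factor (minpoly.not_isUnit F A) hmon.ne_zero
      exact ⟨f, hf, hfd, fun hfX => hd (((hf.associated_of_dvd hX hfX).symm.dvd).trans hfd)⟩
  have hfdeg : f.natDegree = 4 :=
    natDegree_eq_four hf ((natDegree_le_of_dvd hfd hmon.ne_zero).trans hdeg) (hfd.trans hdvd) hf1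
  have hdeg4 : (minpoly F A).natDegree = 4 :=
    le_antisymm hdeg (hfdeg.symm.trans_le (natDegree_le_of_dvd hfd hmon.ne_zero))
  have hirr : Irreducible (minpoly F A) :=
    (associated_of_dvd_of_natDegree_le hfd hmon.ne_zero (by rw [hfdeg, hdeg4])).irreducible hf
  refine ⟨hirr, hdeg4, fun e => ?_⟩
  set μ := minpoly F A
  haveI : Fact (Irreducible μ) := ⟨hirr⟩
  set z := AdjoinRoot.root μ with hz
  haveI : CharP (AdjoinRoot μ) 2 := charP_of_injective_algebraMap (algebraMap F (AdjoinRoot μ)).injective 2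
  have hcoef : ∀ i, μ.coeff i = 0 ∨ μ.coeff i = 1 := fun i => by
    refine sq_mem _ ?_
    rw [← sg_apply]
    conv_rhs => rw [← e]
    rw [coeff_map]
    rfl
  have hroot : ∀ w : AdjoinRoot μ, aeval w μ = 0 → aeval (w ^ 2) μ = 0 := fun w hw => by
    have h := congrArg (fun y => frobenius (AdjoinRoot μ) 2 y) hw
    simp only [map_zero] at h
    rw [← h, aeval_eq_sum_range, aeval_eq_sum_range, map_sum]
    refine Finset.sum_congr rfl fun i _ => ?_
    rcases hcoef i with hi | hi <;> rw [hi] <;> simp [frobenius_def, ← pow_mul, mul_comm]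
  have hpow : ∀ i, aeval (z ^ 2 ^ i) μ = 0 := by
    intro i
    induction i with
    | zero => rw [pow_zero, pow_one]; exact (AdjoinRoot.aeval_eq μ).trans AdjoinRoot.mk_self
    | succ n ih => rw [pow_succ, pow_mul]; exact hroot _ ih
  have hz13 : z ^ 13 = 1 := by
    have : AdjoinRoot.mk μ (X ^ 13 - 1) = 0 := AdjoinRoot.mk_eq_zero.mpr hdvd
    rwa [map_sub, map_pow, map_one, AdjoinRoot.mk_X, sub_eq_zero] at this
  have hz1 : z ≠ 1 := fun e' => by
    have h0 : AdjoinRoot.mk μ (X - 1) = 0 := by rw [map_sub, map_one, AdjoinRoot.mk_X, ← hz, e', sub_self]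
    have := natDegree_le_of_dvd (AdjoinRoot.mk_eq_zero.mp h0) (by simpa using X_sub_C_ne_zero (1 : F))
    rw [hdeg4, show (X - 1 : F[X]) = X - Polynomial.C 1 by rw [map_one], natDegree_X_sub_C] at this
    omega
  haveI : Fact (Nat.Prime 13) := ⟨by norm_num⟩
  have ho : orderOf z = 13 := orderOf_eq_prime hz13 hz1
  have hinj : Function.Injective (fun i : Fin 5 => z ^ 2 ^ (i : ℕ)) := by
    intro i j h
    simp only at h
    rw [(isOfFinOrder_iff_pow_eq_one.mpr ⟨13, by norm_num, hz13⟩).pow_eq_pow_iff_modEq, ho] at h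
    fin_cases i <;> fin_cases j <;> first | rfl | (norm_num [Nat.ModEq] at h)
  have hcard := Finset.card_le_card_of_injOn (fun i : Fin 5 => z ^ 2 ^ (i : ℕ))
    (s := Finset.univ) (t := (μ.aroots (AdjoinRoot μ)).toFinset) (fun i _ => by
      rw [Finset.mem_coe, Multiset.mem_toFinset, mem_aroots]
      exact ⟨hmon.ne_zero, hpow i⟩) hinj.injOn
  rw [Finset.card_univ, Fintype.card_fin] at hcard
  have := hcard.trans ((Multiset.toFinset_card_le _).trans (card_roots' _))
  rw [natDegree_map, hdeg4] at this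
  omega

/-- Elements of order 13 fix no nonzero matrix. -/
theorem tw_fpf {g : ↥(G F 1)} (h13 : g ^ 13 = 1) (h1 : g ≠ 1) {X : M F} (hX : tw g X = X) : X = 0 := by
  set A := g.1.val with hA
  have hA13 : A ^ 13 = 1 := by
    rw [hA, ← Units.val_pow_eq_pow_val, ← SubgroupClass.coe_pow, h13]; rfl
  have hA1 : A ≠ 1 := fun e => h1 (Subtype.ext (Units.ext (by rw [← hA, e]; rfl)))
  obtain ⟨hirr, hdeg, hne⟩ := minpoly_facts hA13 hA1
  set μ := minpoly F A with hμ
  set ν := μ.map (sg F : F ≃+* F).toRingHom with hν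
  set Y := X * antiJ F with hY
  have hcomm : A * Y = Y * sm A := by
    rw [tw_apply, ← hA] at hX
    have h2 : A * X * antiJ F = X * antiJ F * sm A := by
      conv_rhs => rw [← hX]
      simp only [Matrix.mul_assoc]
      rw [show (sm A)ᵀ * (antiJ F * sm A) = antiJ F by rw [← Matrix.mul_assoc]; exact sm_mul_gram g]
    rw [hY, ← Matrix.mul_assoc]; exact h2
  have hp : ∀ q : F[X], aeval A q * Y = Y * aeval (sm A) q := by
    intro q
    induction q using Polynomial.induction_on with
    | C c => rw [aeval_C, aeval_C]; exact Algebra.commutes c Y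
    | add p q hp hq => rw [map_add, map_add, add_mul, mul_add, hp, hq]
    | monomial n c ih =>
      rw [pow_succ, show Polynomial.C c * (Polynomial.X ^ n * Polynomial.X) =
        Polynomial.C c * Polynomial.X ^ n * Polynomial.X from (mul_assoc _ _ _).symm, map_mul (aeval A), map_mul (aeval (sm A)), aeval_X, aeval_X,
        Matrix.mul_assoc (aeval A _), hcomm, ← Matrix.mul_assoc, ih, Matrix.mul_assoc]
  have hν0 : aeval (sm A) ν = 0 := by
    rw [hν, aeval_def, eval₂_map,
      show (algebraMap F (M F)).comp (sg F : F ≃+* F).toRingHom = (sm : M F →+* M F).comp (algebraMap F (M F)) from ?_,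
      ← hom_eval₂, ← aeval_def, hμ, minpoly.aeval, map_zero]
    refine RingHom.ext fun c => Matrix.ext fun i j => ?_
    simp [sm_apply, Matrix.algebraMap_matrix_apply, apply_ite (sg F)]
  have hirr' : Irreducible ν := by
    rw [hν]
    exact (MulEquiv.irreducible_iff (mapEquiv (sg F : F ≃+* F)).toMulEquiv).mpr hirr
  have hcop : IsCoprime μ ν := by
    refine hirr.coprime_iff_not_dvd.mpr fun hd => hne ?_
    have hm : μ.Monic := minpoly.monic (Algebra.IsIntegral.isIntegral A)
    exact (eq_of_monic_of_associated hm (hm.map _) (hirr.associated_of_dvd hirr' hd)).symm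
  obtain ⟨a, b, hab⟩ := hcop
  have : Y = 0 := by
    calc Y = Y * aeval (sm A) (a * μ + b * ν) := by rw [hab, map_one, mul_one]
      _ = Y * aeval (sm A) (μ * a) := by rw [map_add, map_mul _ b, hν0, mul_zero, add_zero, mul_comm a]
      _ = aeval A (μ * a) * Y := (hp _).symm
      _ = 0 := by rw [map_mul, hμ, minpoly.aeval, zero_mul, zero_mul]
  calc X = Y * antiJ F := by rw [hY, Matrix.mul_assoc, antiJ_mul_self, mul_one]
    _ = 0 := by rw [this, zero_mul]

end

end Cfsg.Agent.Lib.SzEightGraph
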