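import Mathlib
import Cfsg.Agent.Lib.KnownA.SuzukiAut
import Cfsg.Agent.Lib.KnownA.SuzukiPartition
import Cfsg.Agent.Lib.Recognition.SuzukiFix

/-!
Sz(8) extended by its field automorphisms, acting on the 4 by 4 matrices over GF(8) by
`X ↦ g X (σ g)ᵀ` and entrywise Galois action.
-/

set_option autoImplicit false

set_option linter.unusedSectionVars false

namespace Cfsg.Agent.Lib.SzEightGraph

open Matrix Cfsg.Lie Cfsg.Agent.Lib.KnownA Cfsg.Agent.Lib.KnownA.Suz Cfsg.Agent.Lib.Recognition

noncomputable section

variable (F : Type) [Field F] [Fintype F] [CharP F 2] [hF : Fact (Fintype.card F = 2 ^ (2 * 1 + 1))]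

theorem pow_eight (x : F) : x ^ 8 = x := by
  have := FiniteField.pow_card x
  rwa [hF.out] at this

theorem hth : ∀ x : F, szTh 1 (szTh 1 x) = x * x := th_sq hF.out

/-- The Frobenius automorphism of GF(8). -/
def sg : F ≃+* F := frobeniusEquiv F 2

theorem sg_apply (x : F) : sg F x = x ^ 2 := by simp [sg, frobeniusEquiv_apply, frobenius_def]

theorem sg_pow_three : (sg F) ^ 3 = 1 := by
  refine RingEquiv.ext fun x => ?_
  have h1 : ∀ a b : F ≃+* F, ∀ y, (a * b) y = a (b y) := fun _ _ _ => rfl
  rw [pow_succ, pow_two, h1, h1, sg_apply, sg_apply, sg_apply, ← pow_mul, ← pow_mul]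
  exact (pow_eight F x).trans rfl

/-- The Galois group. -/
abbrev C := Multiplicative (ZMod 3)

/-- The Galois action. -/
def gal : C →* RingAut F :=
  MonoidHom.mk' (fun c => sg F ^ (Multiplicative.toAdd c).val) fun a b => by
    rw [toAdd_mul, ZMod.val_add, ← pow_add]
    conv_rhs => rw [← Nat.mod_add_div ((Multiplicative.toAdd a).val + (Multiplicative.toAdd b).val) 3,
      pow_add, pow_mul, sg_pow_three, one_pow, mul_one]

theorem gal_comm (c : C) (x : F) : gal F c (szTh 1 x) = szTh 1 (gal F c x) := by
  rw [szTh_apply, szTh_apply, map_pow]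

/-- The Galois action on Sz(8). -/
def galSzHom (c : C) : ↥(G F 1) →* ↥(G F 1) :=
  mapSz (hth F) (hth F) (gal F c : F ≃+* F).toRingHom (gal_comm F c)

theorem galSzHom_val (c : C) (g : ↥(G F 1)) :
    (galSzHom F c g).1.val = g.1.val.map (gal F c) := rfl

/-- The Galois automorphisms of Sz(8). -/
def galSz : C →* MulAut ↥(G F 1) :=
  MonoidHom.mk' (fun c =>
    { toFun := galSzHom F c
      invFun := galSzHom F c⁻¹
      left_inv := fun g => Subtype.ext <| Units.ext <| by
        rw [galSzHom_val, galSzHom_val]; ext i j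
        show (gal F c⁻¹) ((gal F c) (g.1.val i j)) = g.1.val i j
        rw [← RingAut.mul_apply, ← map_mul, inv_mul_cancel, map_one]; rfl
      right_inv := fun g => Subtype.ext <| Units.ext <| by
        rw [galSzHom_val, galSzHom_val]; ext i j
        show (gal F c) ((gal F c⁻¹) (g.1.val i j)) = g.1.val i j
        rw [← RingAut.mul_apply, ← map_mul, mul_inv_cancel, map_one]; rfl
      map_mul' := map_mul _ }) fun a b => MulEquiv.ext fun g => Subtype.ext <| Units.ext <| by
    show (galSzHom F (a * b) g).1.val = (galSzHom F a (galSzHom F b g)).1.val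
    rw [galSzHom_val, galSzHom_val, galSzHom_val]; ext i j
    simp [map_mul]

theorem galSz_val (c : C) (g : ↥(G F 1)) : (galSz F c g).1.val = g.1.val.map (gal F c) := rfl

/-- Sz(8) extended by the Galois group. -/
abbrev L := ↥(G F 1) ⋊[galSz F] C

/-- The matrix space. -/
abbrev M := Matrix (Fin 4) (Fin 4) F

variable {F}

/-- `σ` on matrices. -/
def sm : M F →+* M F := (sg F : F ≃+* F).toRingHom.mapMatrix

theorem sm_apply (X : M F) : sm X = X.map (sg F) := rfl

/-- The action of Sz(8) on matrices. -/
def tw (g : ↥(G F 1)) : AddMonoid.End (M F) :=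
  AddMonoidHom.mk' (fun X => g.1.val * X * (sm g.1.val)ᵀ) fun X Y => by rw [mul_add, add_mul]

theorem tw_apply (g : ↥(G F 1)) (X : M F) : tw g X = g.1.val * X * (sm g.1.val)ᵀ := rfl

theorem tw_one (X : M F) : tw (1 : ↥(G F 1)) X = X := by simp [tw_apply]

theorem tw_mul (g h : ↥(G F 1)) (X : M F) : tw (g * h) X = tw g (tw h X) := by
  simp only [tw_apply, Subgroup.coe_mul, Units.val_mul, map_mul, Matrix.transpose_mul, Matrix.mul_assoc]

/-- The Galois group on matrices. -/
def gm (c : C) : AddMonoid.End (M F) :=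
  ((gal F c : F ≃+* F).toRingHom.mapMatrix : M F →+* M F).toAddMonoidHom

theorem gm_apply (c : C) (X : M F) : gm c X = X.map (gal F c) := rfl

theorem gm_mul (a b : C) (X : M F) : gm (a * b) X = gm a (gm b X) := by
  ext i j; simp [gm_apply, map_mul]

theorem gm_one (X : M F) : gm (1 : C) X = X := by
  ext i j; simp [gm_apply]

theorem sg_gal (c : C) (x : F) : gal F c (sg F x) = sg F (gal F c x) := by
  rw [sg_apply, sg_apply, map_pow]

theorem gm_tw (c : C) (g : ↥(G F 1)) (X : M F) : gm c (tw g X) = tw (galSz F c g) (gm c X) := by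
  have hm : ∀ A B : M F, (A * B).map (gal F c) = A.map (gal F c) * B.map (gal F c) :=
    fun A B => Matrix.map_mul
  rw [gm_apply, tw_apply, tw_apply, hm, hm, gm_apply, galSz_val]
  congr 1
  ext i j
  simp [sm_apply, sg_gal]

variable (F)

/-- The module. -/
abbrev V (k : ℕ) := Fin k → M F

/-- Action of `L` on the module. -/
def act2 (k : ℕ) : L F →* MulAut (Multiplicative (V F k)) :=
  MonoidHom.mk' (fun l =>
    AddEquiv.toMultiplicative
      { toFun := fun v i => tw l.left (gm l.right (v i))
        invFun := fun v i => gm l.right⁻¹ (tw l.left⁻¹ (v i))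
        left_inv := fun v => funext fun i => by
          show gm l.right⁻¹ (tw l.left⁻¹ (tw l.left (gm l.right (v i)))) = v i
          rw [← tw_mul, inv_mul_cancel, tw_one, ← gm_mul, inv_mul_cancel, gm_one]
        right_inv := fun v => funext fun i => by
          show tw l.left (gm l.right (gm l.right⁻¹ (tw l.left⁻¹ (v i)))) = v i
          rw [← gm_mul, mul_inv_cancel, gm_one, ← tw_mul, mul_inv_cancel, tw_one]
        map_add' := fun v w => funext fun i => by simp [map_add] }) fun a b => by
    refine MulEquiv.ext fun v => ?_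
    refine Multiplicative.toAdd.injective (funext fun i => ?_)
    show tw (a * b).left (gm (a * b).right (Multiplicative.toAdd v i)) =
      tw a.left (gm a.right (tw b.left (gm b.right (Multiplicative.toAdd v i))))
    rw [gm_tw, ← gm_mul, ← tw_mul]
    rfl

/-- The group with the prime graph of PSp₆(3). -/
abbrev H (k : ℕ) := Multiplicative (V F k) ⋊[act2 F k] L F

end

end Cfsg.Agent.Lib.SzEightGraph
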