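import Cfsg.Agent.Lib.SzEightGraph.Fpf

/-!
Element orders in the extension of Sz(8) by its module: the prime graph.
-/

set_option autoImplicit false
set_option linter.unusedSectionVars false
set_option linter.style.haveILetI false
set_option maxHeartbeats 800000

namespace Cfsg.Agent.Lib.SzEightGraph

open Matrix Cfsg.Lie Cfsg.Agent.Lib.KnownA Cfsg.Agent.Lib.KnownA.Suz Cfsg.Agent.Lib.Recognition
open SemidirectProduct

noncomputable section

variable (F : Type) [Field F] [Fintype F] [CharP F 2] [hF : Fact (Fintype.card F = 2 ^ (2 * 1 + 1))]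

theorem card_G8 : Nat.card ↥(G F 1) = 29120 := by
  rw [card_sz (hth F), hF.out]; norm_num

instance : Finite (L F) := Finite.of_equiv _ SemidirectProduct.equivProd.symm

theorem card_L : Nat.card (L F) = 87360 := by
  rw [SemidirectProduct.card, card_G8, Nat.card_eq_fintype_card]
  simp

theorem factorization_eq {p a m n : ℕ} (hp : p.Prime) (h : n = p ^ a * m) (hm : ¬ p ∣ m) :
    n.factorization p = a := by
  subst h
  have hm0 : m ≠ 0 := fun e => hm (e ▸ dvd_zero p)
  rw [Nat.factorization_mul (pow_ne_zero _ hp.ne_zero) hm0, hp.factorization_pow, Finsupp.add_apply,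
    Finsupp.single_eq_same, Nat.factorization_eq_zero_of_not_dvd hm, add_zero]

variable {F}

theorem sz_orders (g : ↥(G F 1)) : orderOf g ∣ 64 ∨ orderOf g ∣ 5 ∨ orderOf g ∣ 7 ∨ orderOf g ∣ 13 := by
  rcases eq_or_ne g 1 with rfl | hg
  · simp
  obtain ⟨U', ⟨hU, hgU⟩, -⟩ := partition (hth F) le_rfl hF.out hg
  have hd : orderOf g ∣ Nat.card U' := by
    have := orderOf_dvd_natCard (G := ↥U') ⟨g, hgU⟩
    rwa [Subgroup.orderOf_mk] at this
  haveI : Fact (Nat.Prime 2) := ⟨Nat.prime_two⟩
  rcases hU with ⟨P, rfl⟩ | ⟨-, hk⟩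
  · left
    refine hd.trans (dvd_of_eq ?_)
    rw [P.card_eq_multiplicity, card_G8]
    have : (29120 : ℕ).factorization 2 = 6 := factorization_eq (m := 455) Nat.prime_two (by norm_num) (by norm_num)
    rw [this]; norm_num
  · norm_num at hk
    rcases hk with h | h | h <;> rw [h] at hd
    · exact Or.inr (Or.inr (Or.inl hd))
    · exact Or.inr (Or.inr (Or.inr hd))
    · exact Or.inr (Or.inl hd)

theorem no_sz_order {n : ℕ} (h1 : ¬ n ∣ 64) (h5 : ¬ n ∣ 5) (h7 : ¬ n ∣ 7) (h13 : ¬ n ∣ 13) (g : ↥(G F 1)) :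
    orderOf g ≠ n := fun h => by
  rcases sz_orders g with e | e | e | e <;> rw [h] at e <;> contradiction

/-- The right component has order dividing three. -/
theorem right_cube (x : L F) : x.right ^ 3 = 1 := by
  have := pow_card_eq_one (x := x.right)
  simpa using this

theorem mem_left {x : L F} {n : ℕ} (hn : x ^ n = 1) (h3 : Nat.Coprime n 3) :
    ∃ g : ↥(G F 1), x = inl g := by
  have h1 : x.right ^ n = 1 := by
    have := congrArg (rightHom (φ := galSz F)) hn
    rwa [map_pow, map_one] at this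
  have h2 : x.right = 1 := by
    have := pow_gcd_eq_one.mpr ⟨h1, right_cube x⟩
    rwa [h3, pow_one] at this
  exact ⟨x.left, SemidirectProduct.ext rfl (by rw [right_inl, h2])⟩

theorem orderOf_inl' (g : ↥(G F 1)) : orderOf (inl g : L F) = orderOf g :=
  orderOf_injective inl inl_injective g

theorem no_order_coprime {n : ℕ} (h3 : Nat.Coprime n 3) (h1 : ¬ n ∣ 64) (h5 : ¬ n ∣ 5) (h7 : ¬ n ∣ 7)
    (h13 : ¬ n ∣ 13) (x : L F) : orderOf x ≠ n := fun h => by
  obtain ⟨g, rfl⟩ := mem_left (h ▸ pow_orderOf_eq_one x) h3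
  exact no_sz_order h1 h5 h7 h13 g (by rwa [orderOf_inl'] at h)

/-- A rational element fixes the form. -/
theorem tw_fix_of_rational {g : ↥(G F 1)} (h : sm g.1.val = g.1.val) : tw g (antiJ F) = antiJ F := by
  rw [tw_apply, h]
  exact sp4_gram_row (mem_sp g)

theorem antiJ_ne_zero : antiJ F ≠ 0 := fun h => by
  have := congrArg (fun A : M F => A 0 3) h
  simp [antiJ] at this

theorem no_rational_seven {g : ↥(G F 1)} (h7 : orderOf g = 7) (hr : sm g.1.val = g.1.val) : False := by
  haveI : Fact (Nat.Prime 7) := ⟨by norm_num⟩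
  have hZ : Nat.card (Subgroup.zpowers g) = 7 ^ (Nat.card ↥(G F 1)).factorization 7 := by
    rw [Nat.card_zpowers, h7, card_G8]
    have : (29120 : ℕ).factorization 7 = 1 := factorization_eq (m := 4160) (by norm_num) (by norm_num) (by norm_num)
    rw [this, pow_one]
  have hT : Nat.card (T (hth F)) = 7 ^ (Nat.card ↥(G F 1)).factorization 7 := by
    rw [← hZ, Nat.card_zpowers, h7, card_T (hth F), hF.out]; norm_num
  obtain ⟨c, hc⟩ := MulAction.exists_smul_eq ↥(G F 1) (Sylow.ofCard _ hT) (Sylow.ofCard _ hZ)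
  have hmem : g ∈ (T (hth F)).map (MulAut.conj c).toMonoidHom := by
    have h1 := congrArg (fun P : Sylow 7 ↥(G F 1) => (P : Subgroup ↥(G F 1))) hc
    simp only [Sylow.coe_subgroup_smul, Sylow.coe_ofCard, Subgroup.pointwise_smul_def] at h1
    have : g ∈ Subgroup.zpowers g := Subgroup.mem_zpowers g
    rw [← h1] at this
    simpa [Subgroup.mem_map] using this
  obtain ⟨_, ⟨k, rfl⟩, hk⟩ := hmem
  have hk1 : k ≠ 1 := by
    rintro rfl
    rw [map_one, map_one] at hk
    rw [← hk, orderOf_one] at h7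
    norm_num at h7
  have htr : g.1.val.trace = (szHM 1 (k : F)).trace := by
    rw [← hk]
    show ((c.1 : GL (Fin 4) F).val * szHM 1 (k : F) * (c⁻¹ : ↥(G F 1)).1.val).trace = _
    rw [Matrix.trace_mul_comm, ← Matrix.mul_assoc, ← Units.val_mul, ← Subgroup.coe_mul, inv_mul_cancel]
    simp
  have hrat : g.1.val.trace ^ 2 = g.1.val.trace := by
    conv_rhs => rw [← hr]
    rw [Matrix.trace, Matrix.trace, ← sg_apply, map_sum]
    rfl
  rw [htr] at hrat
  have h0 : (k : F) ≠ 0 := k.ne_zero
  have h2 : (2 : F) = 0 := CharP.cast_eq_zero F 2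
  have h7' : (k : F) ^ 7 = 1 := by
    have := FiniteField.pow_card_sub_one_eq_one (k : F) h0
    rwa [hF.out] at this
  have et : (szHM 1 (k : F)).trace = k + (k : F) ^ 3 + (k : F) ^ 4 + (k : F) ^ 6 := by
    have e1 : ((k : F))⁻¹ = (k : F) ^ 6 := by
      refine inv_eq_of_mul_eq_one_right ?_
      linear_combination h7'
    have e3 : szTh 1 (k : F) / k = (k : F) ^ 3 := by
      rw [szTh_apply, div_eq_iff h0]; ring
    have e4 : (k : F) / szTh 1 (k : F) = (k : F) ^ 4 := by
      rw [szTh_apply, div_eq_iff (pow_ne_zero _ h0)]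
      linear_combination -(k : F) * h7'
    rw [szHM, Matrix.trace, Fin.sum_univ_four]
    simp [Matrix.diag, e1, e3, e4, add_assoc]
  rw [et] at hrat
  have hk' : (k : F) ^ 3 + (k : F) ^ 4 + (k : F) ^ 2 + (k : F) ^ 5 = 0 := by
    linear_combination hrat - ((k : F) ^ 4 + (k : F) ^ 5 + (k : F) ^ 7 + (k : F) ^ 7 + (k : F) ^ 9 +
      (k : F) ^ 10) * h2 - ((k : F) + (k : F) ^ 5) * h7' + ((k : F) ^ 3 + (k : F) ^ 4) * h2
  have hk2 : (k : F) ^ 2 * ((k : F) + 1) ^ 3 = 0 := by
    linear_combination hk' + ((k : F) ^ 3 + (k : F) ^ 4) * h2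
  have h3 : (k : F) + 1 = 0 := by simpa [h0] using hk2
  exact hk1 (Units.ext (by rw [Units.val_one]; linear_combination h3 - h2))

theorem no_three_mul {q : ℕ} (hq : q = 7 ∨ q = 13) (x : L F) : orderOf x ≠ 3 * q := by
  intro hx
  haveI : Fact (Nat.Prime 3) := ⟨by norm_num⟩
  have hq0 : 0 < q := by omega
  have ha : orderOf (x ^ q) = 3 := by
    rw [orderOf_pow, hx, Nat.gcd_eq_right (dvd_mul_left q 3), Nat.mul_div_cancel _ hq0]
  have hb : orderOf (x ^ 3) = q := by
    rw [orderOf_pow, hx, Nat.gcd_eq_right (dvd_mul_right 3 q), Nat.mul_div_cancel_left _ (by norm_num)]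
  set c₀ : C := Multiplicative.ofAdd 1 with hc₀
  have hP : ∀ y : L F, orderOf y = 3 → Nat.card (Subgroup.zpowers y) = 3 ^ (Nat.card (L F)).factorization 3 := by
    intro y hy
    rw [Nat.card_zpowers, hy, card_L]
    have : (87360 : ℕ).factorization 3 = 1 := factorization_eq (m := 29120) (by norm_num) (by norm_num) (by norm_num)
    rw [this, pow_one]
  have hσ : orderOf (inr c₀ : L F) = 3 := by
    rw [orderOf_injective inr inr_injective, hc₀, orderOf_ofAdd_eq_addOrderOf, ZMod.addOrderOf_one]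
  obtain ⟨d, hd⟩ := MulAction.exists_smul_eq (L F) (Sylow.ofCard _ (hP _ ha)) (Sylow.ofCard _ (hP _ hσ))
  set y := d * x * d⁻¹ with hy
  have hmem : (inr c₀ : L F) ∈ Subgroup.zpowers (y ^ q) := by
    have h1 := congrArg (fun P : Sylow 3 (L F) => (P : Subgroup (L F))) hd
    simp only [Sylow.coe_subgroup_smul, Sylow.coe_ofCard, Subgroup.pointwise_smul_def,
      MonoidHom.map_zpowers] at h1
    have h2 : (inr c₀ : L F) ∈ Subgroup.zpowers (inr c₀ : L F) := Subgroup.mem_zpowers _
    rw [← h1] at h2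
    rw [hy, conj_pow]
    simpa using h2
  have hcomm : Commute (inr c₀ : L F) (y ^ 3) := by
    obtain ⟨n, hn⟩ := Subgroup.mem_zpowers_iff.mp hmem
    rw [← hn]
    exact ((Commute.refl y).pow_pow q 3).zpow_left n
  obtain ⟨g, hg⟩ := mem_left (F := F) (x := y ^ 3) (n := q) (by
    rw [hy, conj_pow, conj_pow, ← hb, pow_orderOf_eq_one, mul_one, mul_inv_cancel])
    (by rcases hq with rfl | rfl <;> norm_num)
  have hog : orderOf g = q := by
    rw [← orderOf_inl', ← hg, hy, conj_pow]
    show orderOf (MulAut.conj d (x ^ 3)) = q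
    rw [MulEquiv.orderOf_eq, hb]
  have hfix : galSz F c₀ g = g := by
    rw [hg] at hcomm
    have h : (inr c₀ * inl g : L F).left = (inl g * inr c₀ : L F).left := by rw [hcomm.eq]
    simpa [mul_left] using h
  have hrat : sm g.1.val = g.1.val := by
    conv_rhs => rw [← hfix]
    rw [galSz_val, sm_apply]
    ext i j
    simp [gal, hc₀, ZMod.val_one]
  rcases hq with rfl | rfl
  · exact no_rational_seven hog hrat
  · exact antiJ_ne_zero (tw_fpf (hog ▸ pow_orderOf_eq_one g) (fun e => by rw [e, orderOf_one] at hog; omega)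
      (tw_fix_of_rational hrat))

variable (F)

instance (k : ℕ) : Finite (H F k) := Finite.of_equiv _ SemidirectProduct.equivProd.symm

variable {F}

theorem V_sq {k : ℕ} (v : Multiplicative (V F k)) : v * v = 1 :=
  Multiplicative.toAdd.injective (funext fun i => Matrix.ext fun a b => CharTwo.add_self_eq_zero _)

theorem ker_sq {k : ℕ} {z : H F k} (hz : z.right = 1) : z ^ 2 = 1 := by
  refine SemidirectProduct.ext ?_ ?_
  · rw [pow_two, mul_left, hz, map_one, MulAut.one_apply, one_left]; exact V_sq _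
  · rw [pow_two, mul_right, hz, mul_one, one_right]

theorem right_order {k : ℕ} (z : H F k) : orderOf z ∣ 2 * orderOf z.right ∧ orderOf z.right ∣ orderOf z := by
  refine ⟨orderOf_dvd_of_pow_eq_one ?_, orderOf_map_dvd (rightHom (φ := act2 F k)) z⟩
  rw [mul_comm, pow_mul]
  refine ker_sq ?_
  show rightHom (z ^ orderOf z.right) = 1
  rw [map_pow]
  exact pow_orderOf_eq_one _

theorem H_no_odd {k n : ℕ} (hn : Odd n) (h : ∀ x : L F, orderOf x ≠ n) (z : H F k) : orderOf z ≠ n := by
  intro hz
  obtain ⟨h1, h2⟩ := right_order z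
  rw [hz] at h1 h2
  exact h _ (Nat.dvd_antisymm h2 (((Nat.coprime_two_right.mpr hn)).dvd_of_dvd_mul_left h1))

theorem H_no_two_thirteen {k : ℕ} (z : H F k) : orderOf z ≠ 26 := by
  intro hz
  obtain ⟨h1, h2⟩ := right_order z
  rw [hz] at h1 h2
  have h13 : orderOf z.right = 13 := by
    have hne : orderOf z.right ≠ 26 :=
      no_order_coprime (by norm_num) (by norm_num) (by norm_num) (by norm_num) (by norm_num) _
    have hle := Nat.le_of_dvd (by norm_num) h2
    interval_cases hv : orderOf z.right <;> omega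
  obtain ⟨g, hg⟩ := mem_left (x := z.right) (n := 13) (h13 ▸ pow_orderOf_eq_one _) (by norm_num)
  set w := z ^ 13 with hw
  have hwr : w.right = 1 := by
    show rightHom (z ^ 13) = 1
    rw [map_pow, ← h13]
    exact pow_orderOf_eq_one _
  have hfix : act2 F k z.right w.left = w.left := by
    have h : (z * w).left = (w * z).left := by rw [(Commute.self_pow z 13).eq]
    rw [mul_left, mul_left, hwr, map_one, MulAut.one_apply, mul_comm w.left] at h
    exact mul_left_cancel h
  have hg1 : g ≠ 1 := fun e => by rw [hg, e, map_one, orderOf_one] at h13; omega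
  have hg13 : g ^ 13 = 1 := inl_injective (φ := galSz F) (by rw [map_pow, map_one, ← hg, ← h13, pow_orderOf_eq_one])
  have hw0 : w.left = 1 := by
    refine Multiplicative.toAdd.injective (funext fun i => tw_fpf hg13 hg1 ?_)
    have := congrFun (congrArg Multiplicative.toAdd hfix) i
    rw [hg] at this
    show tw g _ = _
    conv_rhs => rw [← this]
    show _ = tw g (gm 1 _)
    rw [gm_one]
  have : w = 1 := SemidirectProduct.ext (by rw [hw0, one_left]) (by rw [hwr, one_right])
  have := orderOf_dvd_of_pow_eq_one (hw ▸ this)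
  rw [hz] at this
  norm_num at this

/-- A fixed matrix doubles the order of an element of Sz(8) of odd prime order. -/
theorem exists_double {k : ℕ} (hk : 0 < k) {q : ℕ} (hq : q.Prime) (hodd : q ≠ 2) {g : ↥(G F 1)} (hg : orderOf g = q)
    {X : M F} (hX : X ≠ 0) (hfix : tw g X = X) : ∃ z : H F k, orderOf z = 2 * q := by
  set v : Multiplicative (V F k) := Multiplicative.ofAdd (fun _ => X) with hv
  have hcomm : Commute (inl v : H F k) (inr (inl g)) := by
    refine SemidirectProduct.ext ?_ ?_
    · rw [mul_left, mul_left, left_inl, left_inr, right_inl, right_inr, map_one, mul_one, one_mul]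
      refine Multiplicative.toAdd.injective (funext fun i => ?_)
      show X = tw g (gm 1 X)
      rw [gm_one, hfix]
    · simp
  haveI : Fact (Nat.Prime 2) := ⟨Nat.prime_two⟩
  have hov : orderOf (inl v : H F k) = 2 := by
    rw [orderOf_injective inl inl_injective]
    refine orderOf_eq_prime (by rw [pow_two]; exact V_sq v) fun e => hX ?_
    exact congrFun (congrArg Multiplicative.toAdd e) ⟨0, hk⟩
  have hog : orderOf (inr (inl g) : H F k) = q := by
    rw [orderOf_injective inr inr_injective, orderOf_inl', hg]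
  exact ⟨_, (hcomm.orderOf_mul_eq_mul_orderOf_of_coprime (by
    rw [hov, hog]; exact (Nat.coprime_primes Nat.prime_two hq).mpr hodd.symm)).trans (by rw [hov, hog])⟩

variable (F)

/-- A rational element of order five. -/
def g5 : ↥(G F 1) := wel (hth F) * u (hth F) 0 1

theorem g5_val : (g5 F).1.val = !![1, 1, 0, 1; 1, 0, 1, 0; 0, 1, 0, 0; 1, 0, 0, 0] := by
  show szW * szUM 1 (0 : F) 1 = _
  ext i j
  fin_cases i <;> fin_cases j <;> simp [szW, szUM, Matrix.mul_apply, Fin.sum_univ_four]

theorem g5_order : orderOf (g5 F) = 5 := by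
  haveI : Fact (Nat.Prime 5) := ⟨by norm_num⟩
  refine orderOf_eq_prime (Subtype.ext (Units.ext ?_)) fun e => ?_
  · rw [SubgroupClass.coe_pow, Units.val_pow_eq_pow_val, g5_val]
    have e : (!![1, 1, 0, 1; 1, 0, 1, 0; 0, 1, 0, 0; 1, 0, 0, 0] : M F) =
        ((ZMod.castHom (dvd_refl 2) F).mapMatrix !![1, 1, 0, 1; 1, 0, 1, 0; 0, 1, 0, 0; 1, 0, 0, 0]) := by
      ext i j; fin_cases i <;> fin_cases j <;> simp
    rw [e, ← map_pow, show (!![1, 1, 0, 1; 1, 0, 1, 0; 0, 1, 0, 0; 1, 0, 0, 0] : Matrix (Fin 4) (Fin 4) (ZMod 2)) ^ 5 = 1 by decide, map_one]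
    rfl
  · have := congrArg (fun g : ↥(G F 1) => g.1.val 3 3) e
    simp [g5_val] at this

theorem g5_rational : sm (g5 F).1.val = (g5 F).1.val := by
  rw [g5_val, sm_apply]
  ext i j
  fin_cases i <;> fin_cases j <;> simp

theorem exists_ten {k : ℕ} (hk : 0 < k) : ∃ z : H F k, orderOf z = 10 :=
  exists_double hk (by norm_num) (by norm_num) (g5_order F) antiJ_ne_zero (tw_fix_of_rational (g5_rational F))

theorem exists_fourteen {k : ℕ} (hk : 0 < k) : ∃ z : H F k, orderOf z = 14 := by
  obtain ⟨a, ha0, ha1⟩ : ∃ a : F, a ≠ 0 ∧ a ≠ 1 := by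
    by_contra h
    push Not at h
    classical
    have hsub : (Finset.univ : Finset F) ⊆ ({0, 1} : Finset F) := fun a _ => by
      rcases eq_or_ne a 0 with h0 | h0
      · simp [h0]
      · simp [h a h0]
    have := (Finset.card_le_card hsub).trans Finset.card_le_two
    rw [Finset.card_univ, hF.out] at this
    norm_num at this
  set κ : Fˣ := Units.mk0 a ha0
  have h7 : a ^ 7 = 1 := by
    have := FiniteField.pow_card_sub_one_eq_one a ha0
    rwa [hF.out] at this
  haveI : Fact (Nat.Prime 7) := ⟨by norm_num⟩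
  have hg : orderOf (tor (hth F) κ) = 7 := by
    have h := orderOf_injective (torHom (hth F)) (tor_injective (hth F)) κ
    refine h.trans (orderOf_eq_prime (Units.ext (by simpa [κ] using h7)) fun e => ha1 ?_)
    simpa [κ] using congrArg Units.val e
  refine exists_double hk (by norm_num) (by norm_num) hg (X := Matrix.single 0 1 1)
    (fun e => by simpa using congrArg (fun A : M F => A 0 1) e) ?_
  rw [tw_apply]
  show szHM 1 a * Matrix.single 0 1 1 * (sm (szHM 1 a))ᵀ = _
  have e3 : szTh 1 a / a = a ^ 3 := by rw [szTh_apply, div_eq_iff ha0]; ring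
  ext i j
  rw [sm_apply, szHM, Matrix.diagonal_map (map_zero _), Matrix.diagonal_transpose, Matrix.mul_diagonal,
    Matrix.diagonal_mul]
  fin_cases i <;> fin_cases j <;> simp [Matrix.single, e3, sg_apply]
  linear_combination h7

theorem exists_fifteen {k : ℕ} : ∃ z : H F k, orderOf z = 15 := by
  obtain ⟨y, hy⟩ : ∃ y : L F, orderOf y = 15 := by
    set c₀ : C := Multiplicative.ofAdd 1 with hc₀
    have hσ : orderOf (inr c₀ : L F) = 3 := by
      rw [orderOf_injective inr inr_injective, hc₀, orderOf_ofAdd_eq_addOrderOf, ZMod.addOrderOf_one]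
    have hfix : galSz F c₀ (g5 F) = g5 F := Subtype.ext (Units.ext (by
      rw [galSz_val]; conv_rhs => rw [← g5_rational F]
      rw [sm_apply]; ext i j; simp [gal, hc₀, ZMod.val_one]))
    have hcomm : Commute (inr c₀ : L F) (inl (g5 F)) := by
      refine SemidirectProduct.ext ?_ ?_
      · simp [mul_left, hfix]
      · simp
    refine ⟨_, (hcomm.orderOf_mul_eq_mul_orderOf_of_coprime ?_).trans ?_⟩ <;>
      rw [hσ, orderOf_inl', g5_order] <;> norm_num
  exact ⟨inr y, by rw [orderOf_injective inr inr_injective, hy]⟩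

theorem exists_six {k : ℕ} : ∃ z : H F k, orderOf z = 6 := by
  obtain ⟨y, hy⟩ : ∃ y : L F, orderOf y = 6 := by
    set c₀ : C := Multiplicative.ofAdd 1 with hc₀
    have hσ : orderOf (inr c₀ : L F) = 3 := by
      rw [orderOf_injective inr inr_injective, hc₀, orderOf_ofAdd_eq_addOrderOf, ZMod.addOrderOf_one]
    have hfix : galSz F c₀ (wel (hth F)) = wel (hth F) := Subtype.ext (Units.ext (by
      rw [galSz_val]
      show (szW : M F).map (gal F c₀) = szW
      ext i j; fin_cases i <;> fin_cases j <;> simp [szW]))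
    have hw : orderOf (wel (hth F)) = 2 := by
      haveI : Fact (Nat.Prime 2) := ⟨Nat.prime_two⟩
      refine orderOf_eq_prime (by rw [pow_two, wel_mul_self]) fun e => ?_
      have : (szW : M F) 0 0 = 1 := by
        rw [show (szW : M F) = (wel (hth F)).1.val from rfl, e]; rfl
      simp [szW] at this
    have hcomm : Commute (inr c₀ : L F) (inl (wel (hth F))) := by
      refine SemidirectProduct.ext ?_ ?_
      · simp [mul_left, hfix]
      · simp
    refine ⟨_, (hcomm.orderOf_mul_eq_mul_orderOf_of_coprime ?_).trans ?_⟩ <;>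
      rw [hσ, orderOf_inl', hw] <;> norm_num
  exact ⟨inr y, by rw [orderOf_injective inr inr_injective, hy]⟩

theorem prime_dvd_H {k p : ℕ} (hk : 0 < k) (hp : p.Prime) :
    p ∣ Nat.card (H F k) ↔ p ∈ ({2, 3, 5, 7, 13} : Finset ℕ) := by
  obtain ⟨e, he⟩ : ∃ e, Nat.card (Multiplicative (V F k)) = 2 ^ e := by
    refine ⟨3 * (4 * 4) * k, ?_⟩
    rw [Nat.card_congr Multiplicative.toAdd, Nat.card_fun, Nat.card_fin]
    rw [show Nat.card (M F) = Nat.card (Fin 4 → Fin 4 → F) from rfl]
    simp only [Nat.card_fun, Nat.card_fin, Nat.card_eq_fintype_card (α := F), hF.out, ← pow_mul]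
  rw [SemidirectProduct.card, he, card_L, show (87360 : ℕ) = 2 ^ 6 * (3 * (5 * (7 * 13))) by norm_num]
  constructor
  · intro h
    simp only [Finset.mem_insert, Finset.mem_singleton]
    rcases (Nat.Prime.dvd_mul hp).mp h with h | h
    · exact Or.inl ((Nat.prime_dvd_prime_iff_eq hp Nat.prime_two).mp (hp.dvd_of_dvd_pow h))
    · simp only [Nat.Prime.dvd_mul hp] at h
      rcases h with h | h | h | h | h
      · exact Or.inl ((Nat.prime_dvd_prime_iff_eq hp Nat.prime_two).mp (hp.dvd_of_dvd_pow h))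
      all_goals (rw [Nat.prime_dvd_prime_iff_eq hp (by norm_num)] at h; omega)
  · intro h
    refine Dvd.dvd.mul_left ?_ _
    simp only [Finset.mem_insert, Finset.mem_singleton] at h
    rcases h with rfl | rfl | rfl | rfl | rfl <;> norm_num

end

end Cfsg.Agent.Lib.SzEightGraph
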