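import Mathlib

/-!
Centralizers of elements of orders 7 and 13 in Sp₆(3).
-/

set_option autoImplicit false
set_option linter.unusedSectionVars false
set_option linter.style.haveILetI false
set_option maxHeartbeats 800000

namespace Cfsg.Agent.Lib.SzEightGraph.Symp

open Matrix Polynomial

variable {F : Type*} [Field F] [Fintype F] [CharP F 3] [hF : Fact (Fintype.card F = 3)]

theorem aeval_pow_three {A : Type*} [Ring A] [Algebra F A] (a : A) (q : F[X]) :
    aeval (a ^ 3) q = (aeval a q) ^ 3 := by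
  have h := FiniteField.expand_card q
  rw [hF.out] at h
  have h2 : aeval a (expand F 3 q) = aeval a (q ^ 3) := by rw [h]
  rwa [expand_aeval, map_pow] at h2

theorem aeval_pow_twenty_seven {A : Type*} [Ring A] [Algebra F A] (a : A) (q : F[X]) :
    aeval (a ^ 27) q = (aeval a q) ^ 27 := by
  rw [show (27 : ℕ) = 3 * 3 * 3 by norm_num, pow_mul, pow_mul, aeval_pow_three, aeval_pow_three,
    aeval_pow_three, ← pow_mul, ← pow_mul]

/-- A matrix with a cyclic vector has commutant the polynomials in it. -/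
theorem eq_aeval_of_commute {n : Type*} [Fintype n] [DecidableEq n] {b a : Matrix n n F}
    (hdeg : (minpoly F b).natDegree = Fintype.card n) (v : n → F)
    (hv : ∀ q : F[X], aeval b q *ᵥ v = 0 → minpoly F b ∣ q) (hab : Commute a b) :
    ∃ q : F[X], a = aeval b q := by
  set N := Fintype.card n with hN
  let ψ : Polynomial.degreeLT F N →ₗ[F] n → F :=
    { toFun := fun q => aeval b (q : F[X]) *ᵥ v
      map_add' := fun p q => by rw [Submodule.coe_add, map_add, Matrix.add_mulVec]
      map_smul' := fun c q => by rw [Submodule.coe_smul, map_smul, Matrix.smul_mulVec, RingHom.id_apply] }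
  have hinj : Function.Injective ψ := by
    rw [← LinearMap.ker_eq_bot, LinearMap.ker_eq_bot']
    rintro ⟨q, hq⟩ h
    have hd := hv q h
    refine Subtype.ext ?_
    show q = 0
    by_contra hq0
    have h1 : (minpoly F b).natDegree ≤ q.natDegree := natDegree_le_of_dvd hd hq0
    have h2 := Polynomial.mem_degreeLT.mp hq
    rw [degree_eq_natDegree hq0, Nat.cast_lt] at h2
    omega
  haveI : FiniteDimensional F (Polynomial.degreeLT F N) :=
    Module.Finite.equiv (Polynomial.degreeLTEquiv F N).symm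
  have hsurj : Function.Surjective ψ :=
    (LinearMap.injective_iff_surjective_of_finrank_eq_finrank (by
      rw [LinearEquiv.finrank_eq (Polynomial.degreeLTEquiv F N), Module.finrank_fin_fun,
        Module.finrank_fintype_fun_eq_card, hN])).mp hinj
  obtain ⟨q, hq⟩ := hsurj (a *ᵥ v)
  refine ⟨q, Matrix.ext_iff_mulVec.mpr fun w => ?_⟩
  obtain ⟨p, hp⟩ := hsurj w
  have hq' : aeval b (q : F[X]) *ᵥ v = a *ᵥ v := hq
  rw [← hp]
  show a *ᵥ (aeval b (p : F[X]) *ᵥ v) = aeval b (q : F[X]) *ᵥ (aeval b (p : F[X]) *ᵥ v)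
  have hc : Commute a (aeval b (p : F[X])) := by
    induction (p : F[X]) using Polynomial.induction_on' with
    | add x y hx hy => rw [map_add]; exact hx.add_right hy
    | monomial k c => rw [aeval_monomial]; exact (Algebra.commute_algebraMap_right c a).mul_right (hab.pow_right k)
  rw [Matrix.mulVec_mulVec, hc.eq, ← Matrix.mulVec_mulVec, ← hq', Matrix.mulVec_mulVec, Matrix.mulVec_mulVec,
    ← map_mul, ← map_mul, mul_comm]

theorem root_facts {f : F[X]} (hf : Irreducible f) {r : ℕ} (hr : r.Prime) (hr3 : r ≠ 3)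
    (hd : f ∣ X ^ r - 1) (h1 : ¬ f ∣ X - 1) :
    AdjoinRoot.root f ^ r = 1 ∧ AdjoinRoot.root f ≠ 1 ∧ r ∣ 3 ^ f.natDegree - 1 := by
  haveI : Fact (Irreducible f) := ⟨hf⟩
  haveI : Fintype (AdjoinRoot f) :=
    haveI := Module.Finite.of_basis (AdjoinRoot.powerBasis hf.ne_zero).basis
    haveI := Module.finite_of_finite F (M := AdjoinRoot f)
    Fintype.ofFinite _
  have hc : Fintype.card (AdjoinRoot f) = 3 ^ f.natDegree := by
    rw [Module.card_eq_pow_finrank (K := F), (AdjoinRoot.powerBasis hf.ne_zero).finrank, hF.out,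
      AdjoinRoot.powerBasis_dim]
  have hzr : AdjoinRoot.root f ^ r = 1 := by
    have : AdjoinRoot.mk f (X ^ r - 1) = 0 := AdjoinRoot.mk_eq_zero.mpr hd
    rwa [map_sub, map_pow, map_one, AdjoinRoot.mk_X, sub_eq_zero] at this
  have hz1 : AdjoinRoot.root f ≠ 1 := fun e => h1 (AdjoinRoot.mk_eq_zero.mp (by
    rw [map_sub, map_one, AdjoinRoot.mk_X, e, sub_self]))
  haveI : Fact r.Prime := ⟨hr⟩
  have hz0 : AdjoinRoot.root f ≠ 0 := fun e => by
    rw [e, zero_pow hr.ne_zero] at hzr; exact zero_ne_one hzr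
  refine ⟨hzr, hz1, ?_⟩
  rw [← hc, ← orderOf_eq_prime hzr hz1]
  exact orderOf_dvd_of_pow_eq_one (FiniteField.pow_card_sub_one_eq_one _ hz0)

theorem exists_factor {n : Type*} [Fintype n] [DecidableEq n] [Nonempty n] {b : Matrix n n F} {r : ℕ} (hr : r.Prime) (hr3 : r ≠ 3)
    (hbr : b ^ r = 1) (hb1 : b ≠ 1) :
    ∃ f, Irreducible f ∧ f.Monic ∧ f ∣ minpoly F b ∧ f ∣ X ^ r - 1 ∧ ¬ f ∣ X - 1 ∧ f.natDegree ≤ Fintype.card n := by
  have hint : IsIntegral F b := Algebra.IsIntegral.isIntegral b
  have hmon := minpoly.monic hint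
  have hdvd : minpoly F b ∣ X ^ r - 1 := minpoly.dvd F b (by simp [hbr])
  have hdeg : (minpoly F b).natDegree ≤ Fintype.card n := by
    have := natDegree_le_of_dvd (Matrix.minpoly_dvd_charpoly b) (b.charpoly_monic.ne_zero)
    rwa [Matrix.charpoly_natDegree_eq_dim] at this
  have hsep : (X ^ r - 1 : F[X]).Separable := by
    refine X_pow_sub_one_separable_iff.mpr fun h => hr3 ?_
    rw [CharP.cast_eq_zero_iff F 3 r] at h
    exact ((Nat.prime_dvd_prime_iff_eq Nat.prime_three hr).mp h).symm
  have hsq : Squarefree (minpoly F b) := (hsep.of_dvd hdvd).squarefree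
  have hX : Irreducible (X - 1 : F[X]) := by simpa using irreducible_X_sub_C (1 : F)
  obtain ⟨f, hf, hfd, hf1⟩ : ∃ f, Irreducible f ∧ f ∣ minpoly F b ∧ ¬ f ∣ X - 1 := by
    by_cases hd : (X - 1 : F[X]) ∣ minpoly F b
    · obtain ⟨ν, hν⟩ := hd
      have hν0 : ν ≠ 0 := fun e => hmon.ne_zero (by rw [hν, e, mul_zero])
      have hνu : ¬ IsUnit ν := fun hu => by
        have h := map_dvd (Polynomial.aeval b) (((associated_mul_unit_left (X - 1 : F[X]) ν hu).dvd) :
          (X - 1) * ν ∣ X - 1)
        rw [← hν, minpoly.aeval, zero_dvd_iff, map_sub, map_one, aeval_X, sub_eq_zero] at h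
        exact hb1 h
      obtain ⟨f, hf, hfν⟩ := WfDvdMonoid.exists_irreducible_factor hνu hν0
      refine ⟨f, hf, hν ▸ hfν.mul_left _, fun hfX => hX.not_isUnit (hsq (X - 1) ?_)⟩
      rw [hν]
      exact mul_dvd_mul_left _ (((hf.associated_of_dvd hX hfX).symm.dvd).trans hfν)
    · obtain ⟨f, hf, hfd⟩ := WfDvdMonoid.exists_irreducible_factor (minpoly.not_isUnit F b) hmon.ne_zero
      exact ⟨f, hf, hfd, fun hfX => hd (((hf.associated_of_dvd hX hfX).symm.dvd).trans hfd)⟩
  have ha : Associated f (f * C f.leadingCoeff⁻¹) :=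
    (associated_mul_unit_right f _ (isUnit_C.mpr (isUnit_iff_ne_zero.mpr (inv_ne_zero (leadingCoeff_ne_zero.mpr hf.ne_zero)))))
  exact ⟨_, ha.irreducible hf, monic_mul_leadingCoeff_inv hf.ne_zero, ha.symm.dvd.trans hfd,
    ha.symm.dvd.trans (hfd.trans hdvd), fun h => hf1 (ha.dvd.trans h),
    (natDegree_le_of_dvd (ha.symm.dvd.trans hfd) hmon.ne_zero).trans hdeg⟩

abbrev I6 := Fin 3 ⊕ Fin 3

/-- The transpose of a polynomial in an isometry. -/
theorem transpose_aeval {b b' : Matrix I6 I6 F} (hb : b ∈ Matrix.symplecticGroup (Fin 3) F) (hbb : b * b' = 1) (q : F[X]) :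
    (aeval b q)ᵀ * Matrix.J (Fin 3) F = Matrix.J (Fin 3) F * aeval b' q := by
  have h1 : bᵀ * Matrix.J (Fin 3) F = Matrix.J (Fin 3) F * b' := by
    calc bᵀ * Matrix.J (Fin 3) F = bᵀ * Matrix.J (Fin 3) F * (b * b') := by rw [hbb, mul_one]
      _ = (bᵀ * Matrix.J (Fin 3) F * b) * b' := by simp only [Matrix.mul_assoc]
      _ = _ := by rw [SymplecticGroup.mem_iff'.mp hb]
  induction q using Polynomial.induction_on' with
  | add x y hx hy => rw [map_add, map_add, Matrix.transpose_add, add_mul, mul_add, hx, hy]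
  | monomial k c =>
    rw [aeval_monomial, aeval_monomial, Algebra.algebraMap_eq_smul_one, smul_mul_assoc, one_mul, smul_mul_assoc,
      one_mul, Matrix.transpose_smul, Matrix.transpose_pow, smul_mul_assoc, mul_smul_comm]
    congr 1
    induction k with
    | zero => simp
    | succ m ih => rw [pow_succ, Matrix.mul_assoc, h1, ← Matrix.mul_assoc, ih, Matrix.mul_assoc, ← pow_succ]

theorem aeval_inv_mul {b b' a : Matrix I6 I6 F} (hb : b ∈ Matrix.symplecticGroup (Fin 3) F)
    (ha : a ∈ Matrix.symplecticGroup (Fin 3) F) (hbb : b * b' = 1) {q : F[X]} (hq : a = aeval b q) :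
    aeval b' q * a = 1 := by
  have h : aᵀ * Matrix.J (Fin 3) F * a = Matrix.J (Fin 3) F := SymplecticGroup.mem_iff'.mp ha
  rw [hq, transpose_aeval hb hbb, Matrix.mul_assoc, ← hq] at h
  have hJ := Matrix.J_squared (Fin 3) F
  calc aeval b' q * a = -(Matrix.J (Fin 3) F * Matrix.J (Fin 3) F) * (aeval b' q * a) := by
        rw [hJ, neg_neg, one_mul]
    _ = -(Matrix.J (Fin 3) F * (Matrix.J (Fin 3) F * (aeval b' q * a))) := by rw [neg_mul, Matrix.mul_assoc]
    _ = 1 := by rw [h, hJ, neg_neg]

theorem centralizer_seven {b a : Matrix I6 I6 F} (hb : b ∈ Matrix.symplecticGroup (Fin 3) F)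
    (ha : a ∈ Matrix.symplecticGroup (Fin 3) F) (hb7 : b ^ 7 = 1) (hb1 : b ≠ 1) (hab : Commute a b) :
    a ^ 28 = 1 := by
  obtain ⟨f, hf, hfm, hfd, hf7, hf1, hfn⟩ := exists_factor (n := I6) (by norm_num : Nat.Prime 7) (by norm_num) hb7 hb1
  obtain ⟨-, -, hdvd⟩ := root_facts hf (by norm_num : Nat.Prime 7) (by norm_num) hf7 hf1
  have hd6 : f.natDegree = 6 := by
    have := hf.natDegree_pos
    simp only [Fintype.card_sum, Fintype.card_fin] at hfn
    interval_cases f.natDegree <;> first | rfl | (norm_num at hdvd)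
  have hint : IsIntegral F b := Algebra.IsIntegral.isIntegral b
  have hdeg : (minpoly F b).natDegree ≤ 6 := by
    have := natDegree_le_of_dvd (Matrix.minpoly_dvd_charpoly b) (b.charpoly_monic.ne_zero)
    rwa [Matrix.charpoly_natDegree_eq_dim] at this
  have heq : f = minpoly F b := eq_of_monic_of_associated hfm (minpoly.monic hint)
    (associated_of_dvd_of_natDegree_le hfd (minpoly.ne_zero hint) (hdeg.trans hd6.ge))
  obtain ⟨q, hq⟩ := eq_aeval_of_commute (b := b) (a := a) (by rw [← heq, hd6]; rfl) (Pi.single (Sum.inl 0) 1)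
    (fun p hp => by
      by_contra hnd
      rw [← heq] at hnd
      obtain ⟨x, y, hxy⟩ := hf.coprime_iff_not_dvd.mpr hnd
      have h2 : aeval b (x * f + y * p) *ᵥ Pi.single (Sum.inl 0) (1 : F) = 0 := by
        rw [map_add, map_mul, map_mul, heq, minpoly.aeval, mul_zero, zero_add, ← Matrix.mulVec_mulVec, hp,
          Matrix.mulVec_zero]
      rw [hxy, map_one, Matrix.one_mulVec] at h2
      have := congrFun h2 (Sum.inl 0)
      simp at this) hab
  have hbb : b * b ^ 27 = 1 := by rw [← pow_succ', show 27 + 1 = 7 * 4 by norm_num, pow_mul, hb7, one_pow]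
  have := aeval_inv_mul hb ha hbb hq
  rwa [aeval_pow_twenty_seven, ← hq, ← pow_succ] at this

theorem centralizer_thirteen {b a : Matrix I6 I6 F} (hb : b ∈ Matrix.symplecticGroup (Fin 3) F)
    (ha : a ∈ Matrix.symplecticGroup (Fin 3) F) (hb13 : b ^ 13 = 1) (hb1 : b ≠ 1) (hab : Commute a b) :
    a ^ 26 = 1 ∧ (a * a = 1 → a = 1 ∨ a = -1) := by
  obtain ⟨f, hf, hfm, hfd, hf13, hf1, hfn⟩ := exists_factor (n := I6) (by norm_num : Nat.Prime 13) (by norm_num) hb13 hb1
  obtain ⟨hz13, hz1, hdvd⟩ := root_facts hf (by norm_num : Nat.Prime 13) (by norm_num) hf13 hf1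
  haveI : Fact (Irreducible f) := ⟨hf⟩
  haveI : Fintype (AdjoinRoot f) :=
    haveI := Module.Finite.of_basis (AdjoinRoot.powerBasis hf.ne_zero).basis
    haveI := Module.finite_of_finite F (M := AdjoinRoot f)
    Fintype.ofFinite _
  set z := AdjoinRoot.root f with hz
  have hd3 : f.natDegree = 3 := by
    have hle : 3 ^ f.natDegree ≤ 27 := by
      have hc : Fintype.card (AdjoinRoot f) = 3 ^ f.natDegree := by
        rw [Module.card_eq_pow_finrank (K := F), (AdjoinRoot.powerBasis hf.ne_zero).finrank, hF.out,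
          AdjoinRoot.powerBasis_dim]
      have hall : ∀ w : AdjoinRoot f, w ^ 27 = w := fun w => by
        obtain ⟨p, rfl⟩ := AdjoinRoot.mk_surjective w
        rw [← AdjoinRoot.aeval_eq, ← aeval_pow_twenty_seven, ← hz,
          show z ^ 27 = z by rw [show (27 : ℕ) = 13 * 2 + 1 by norm_num, pow_succ, pow_mul, hz13, one_pow, one_mul]]
      rw [← hc]
      by_contra hlt
      push Not at hlt
      have hne : (X ^ 27 - X : (AdjoinRoot f)[X]) ≠ 0 := FiniteField.X_pow_card_sub_X_ne_zero _ (by norm_num)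
      have := Finset.card_le_card_of_injOn (fun w : AdjoinRoot f => w) (s := Finset.univ)
        (t := (X ^ 27 - X : (AdjoinRoot f)[X]).roots.toFinset) (fun w _ => by
          rw [Finset.mem_coe, Multiset.mem_toFinset, mem_roots hne]
          simp [hall w]) (Function.injective_id.injOn)
      have h2 := this.trans ((Multiset.toFinset_card_le _).trans (card_roots' _))
      rw [Finset.card_univ, FiniteField.X_pow_card_sub_X_natDegree_eq _ (by norm_num : 1 < 27)] at h2
      omega
    have := hf.natDegree_pos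
    have : f.natDegree ≤ 3 := by
      by_contra h
      push Not at h
      have := Nat.pow_le_pow_right (show 1 ≤ 3 by norm_num) h
      norm_num at this
      omega
    interval_cases f.natDegree <;> first | rfl | (norm_num at hdvd)
  haveI : Fact (Nat.Prime 13) := ⟨by norm_num⟩
  have hoz : orderOf z = 13 := orderOf_eq_prime hz13 hz1
  have hint : IsIntegral F b := Algebra.IsIntegral.isIntegral b
  set μ := minpoly F b with hμ
  have hμdeg : μ.natDegree ≤ 6 := by
    have := natDegree_le_of_dvd (Matrix.minpoly_dvd_charpoly b) (b.charpoly_monic.ne_zero)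
    rwa [Matrix.charpoly_natDegree_eq_dim] at this
  have hbb : b * b ^ 12 = 1 := by rw [← pow_succ']; exact hb13
  have hμz : ∀ p : F[X], μ ∣ p → aeval z p = 0 := fun p hp => by
    rw [hz, AdjoinRoot.aeval_eq, AdjoinRoot.mk_eq_zero]; exact hfd.trans hp
  have hμ12 : aeval (z ^ 12) μ = 0 := by
    have h1 : aeval (b ^ 12) μ = 0 := by
      have h2 := transpose_aeval hb hbb μ
      rw [hμ, minpoly.aeval, Matrix.transpose_zero, zero_mul] at h2
      have hJ := Matrix.J_squared (Fin 3) F
      calc aeval (b ^ 12) μ = -(Matrix.J (Fin 3) F * (Matrix.J (Fin 3) F * aeval (b ^ 12) μ)) := by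
            rw [← Matrix.mul_assoc, hJ, neg_one_mul, neg_neg]
        _ = 0 := by rw [hμ, ← h2, mul_zero, neg_zero]
    have h3 : μ ∣ expand F 12 μ := minpoly.dvd F b (by rw [expand_aeval]; exact h1)
    have := hμz _ h3
    rwa [expand_aeval] at this
  set g := minpoly F (z ^ 12) with hg
  have hintz : IsIntegral F (z ^ 12) := Algebra.IsIntegral.isIntegral _
  have hgirr : Irreducible g := minpoly.irreducible hintz
  have hgm : g.Monic := minpoly.monic hintz
  have hgd : g.natDegree = 3 := by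
    have hdd : g.natDegree ∣ Module.finrank F (AdjoinRoot f) := minpoly.degree_dvd hintz
    rw [(AdjoinRoot.powerBasis hf.ne_zero).finrank, AdjoinRoot.powerBasis_dim, hd3] at hdd
    rcases (Nat.dvd_prime Nat.prime_three).mp hdd with h | h
    · exfalso
      obtain ⟨c, hc⟩ := (minpoly.natDegree_eq_one_iff).mp h
      have hc0 : c ≠ 0 := fun e => by
        rw [e, map_zero] at hc
        have := congrArg (fun w => w * z) hc
        simp only [zero_mul] at this
        rw [← pow_succ, hz13] at this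
        exact zero_ne_one this
      have hc2 : c ^ 2 = 1 := by
        have := FiniteField.pow_card_sub_one_eq_one c hc0
        rwa [hF.out] at this
      have : (z ^ 12) ^ 2 = 1 := by rw [← hc, ← map_pow, hc2, map_one]
      rw [← pow_mul] at this
      have := orderOf_dvd_of_pow_eq_one this
      rw [hoz] at this
      norm_num at this
    · exact h
  have hfg : f ≠ g := by
    intro e
    have h0 : aeval z f = 0 := by rw [hz, AdjoinRoot.aeval_eq, AdjoinRoot.mk_self]
    have h12 : aeval (z ^ 12) f = 0 :=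
      (congrArg (fun p : F[X] => aeval (z ^ 12) p) e).trans (minpoly.aeval F _)
    have h3 : aeval (z ^ 3) f = 0 := by rw [aeval_pow_three, h0, zero_pow (by norm_num)]
    have h9 : aeval (z ^ 9) f = 0 := by
      rw [show z ^ 9 = (z ^ 3) ^ 3 by rw [← pow_mul], aeval_pow_three, h3, zero_pow (by norm_num)]
    have hinj : Function.Injective (fun i : Fin 4 => z ^ (![1, 3, 9, 12] i)) := by
      intro i j h
      simp only at h
      rw [(isOfFinOrder_iff_pow_eq_one.mpr ⟨13, by norm_num, hz13⟩).pow_eq_pow_iff_modEq, hoz] at h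
      fin_cases i <;> fin_cases j <;> first | rfl | (norm_num [Nat.ModEq] at h)
    have hcard := Finset.card_le_card_of_injOn (fun i : Fin 4 => z ^ (![1, 3, 9, 12] i))
      (s := Finset.univ) (t := (f.aroots (AdjoinRoot f)).toFinset) (fun i _ => by
        rw [Finset.mem_coe, Multiset.mem_toFinset, mem_aroots]
        refine ⟨hf.ne_zero, ?_⟩
        fin_cases i
        · simpa using h0
        · simpa using h3
        · simpa using h9
        · simpa using h12) hinj.injOn
    rw [Finset.card_univ, Fintype.card_fin] at hcard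
    have := hcard.trans ((Multiset.toFinset_card_le _).trans (card_roots' _))
    rw [natDegree_map, hd3] at this
    omega
  have hcop : IsCoprime f g := hf.coprime_iff_not_dvd.mpr fun hd =>
    hfg (eq_of_monic_of_associated hfm hgm (hf.associated_of_dvd hgirr hd))
  have hgμ : g ∣ μ := minpoly.dvd F _ hμ12
  have hμeq : f * g = μ := eq_of_monic_of_associated (hfm.mul hgm) (minpoly.monic hint)
    (associated_of_dvd_of_natDegree_le (hcop.mul_dvd hfd hgμ) (minpoly.ne_zero hint)
      (by rw [natDegree_mul hf.ne_zero hgirr.ne_zero, hd3, hgd]; exact hμdeg))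
  have hμ6 : μ.natDegree = 6 := by rw [← hμeq, natDegree_mul hf.ne_zero hgirr.ne_zero, hd3, hgd]
  have nd : ∀ p : F[X], p ≠ 0 → p.natDegree < 6 → aeval b p ≠ 0 := fun p hp hlt h => by
    have := natDegree_le_of_dvd (minpoly.dvd F b h) hp
    rw [← hμ, hμ6] at this; omega
  have hvec : ∀ p : F[X], p ≠ 0 → p.natDegree < 6 → ∃ w, aeval b p *ᵥ w ≠ 0 := fun p hp hlt => by
    by_contra h
    push Not at h
    exact nd p hp hlt (Matrix.ext_iff_mulVec.mpr fun w => by rw [h w, Matrix.zero_mulVec])
  obtain ⟨w₁, hw₁⟩ := hvec g hgirr.ne_zero (by omega)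
  obtain ⟨w₂, hw₂⟩ := hvec f hf.ne_zero (by omega)
  have hfg0 : aeval b f * aeval b g = 0 := by rw [← map_mul, hμeq, hμ, minpoly.aeval]
  have hgf0 : aeval b g * aeval b f = 0 := by rw [← map_mul, mul_comm, hμeq, hμ, minpoly.aeval]
  have key : ∀ (s t : F[X]), Irreducible s → IsCoprime s t → (aeval b s * aeval b t = 0) →
      (aeval b t * aeval b s = 0) → ∀ (u u' : I6 → F), aeval b t *ᵥ u ≠ 0 → ∀ p : F[X],
      aeval b p *ᵥ (aeval b t *ᵥ u + aeval b s *ᵥ u') = 0 → s ∣ p := by
    intro s t hs hst hst0 hts0 u u' hu p hp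
    have h1 : aeval b (p * t) *ᵥ (aeval b t *ᵥ u) = 0 := by
      have h2 := congrArg (fun x => aeval b t *ᵥ x) hp
      simp only [Matrix.mulVec_zero] at h2
      rw [Matrix.mulVec_mulVec, ← map_mul, mul_comm t p, Matrix.mulVec_add] at h2
      rw [show aeval b (p * t) *ᵥ (aeval b s *ᵥ u') = 0 by
        rw [Matrix.mulVec_mulVec, map_mul, Matrix.mul_assoc, hts0, mul_zero, Matrix.zero_mulVec], add_zero] at h2
      exact h2
    by_contra hn
    obtain ⟨x, y, hxy⟩ := (hs.coprime_iff_not_dvd.mpr hn).mul_right hst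
    have h3 : aeval b (x * s + y * (p * t)) *ᵥ (aeval b t *ᵥ u) = 0 := by
      rw [map_add, Matrix.add_mulVec, map_mul, map_mul, ← Matrix.mulVec_mulVec (aeval b t *ᵥ u) (aeval b x),
        ← Matrix.mulVec_mulVec (aeval b t *ᵥ u) (aeval b y), h1, Matrix.mulVec_mulVec u (aeval b s), hst0,
        Matrix.zero_mulVec, Matrix.mulVec_zero, Matrix.mulVec_zero, add_zero]
    rw [hxy, map_one, Matrix.one_mulVec] at h3
    exact hu h3
  obtain ⟨q, hq⟩ := eq_aeval_of_commute (b := b) (a := a) (by rw [← hμ, hμ6]; rfl)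
    (aeval b g *ᵥ w₁ + aeval b f *ᵥ w₂)
    (fun p hp => by
      rw [← hμ, ← hμeq]
      refine hcop.mul_dvd (key f g hf hcop hfg0 hgf0 w₁ w₂ hw₁ p hp) ?_
      exact key g f hgirr hcop.symm hgf0 hfg0 w₂ w₁ hw₂ p (by rw [add_comm]; exact hp)) hab
  have hinv : aeval (b ^ 12) q * a = 1 := aeval_inv_mul hb ha hbb hq
  have h27 : a ^ 27 = a := by
    rw [hq, ← aeval_pow_twenty_seven, show (27 : ℕ) = 13 * 2 + 1 by norm_num, pow_succ, pow_mul, hb13, one_pow, one_mul]
  have hinv' : a * aeval (b ^ 12) q = 1 := mul_eq_one_comm.mp hinv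
  constructor
  · calc a ^ 26 = a ^ 26 * (a * aeval (b ^ 12) q) := by rw [hinv', mul_one]
      _ = 1 := by rw [← Matrix.mul_assoc, ← pow_succ, h27, hinv']
  intro h2
  have hq12 : aeval (b ^ 12) q = a := by
    calc aeval (b ^ 12) q = aeval (b ^ 12) q * (a * a) := by rw [h2, mul_one]
      _ = a := by rw [← Matrix.mul_assoc, hinv, one_mul]
  have hz2 : aeval z q = 1 ∨ aeval z q = -1 := by
    have h := hμz (q * q - 1) (minpoly.dvd F b (by rw [map_sub, map_mul, map_one, ← hq, h2, sub_self]))
    rw [map_sub, map_mul, map_one, sub_eq_zero] at h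
    exact mul_self_eq_one_iff.mp h
  have hzz : aeval (z ^ 12) q = aeval z q := by
    have h := hμz (expand F 12 q - q) (minpoly.dvd F b (by rw [map_sub, expand_aeval, hq12, ← hq, sub_self]))
    rwa [map_sub, expand_aeval, sub_eq_zero] at h
  have fin : ∀ s : F, aeval z q = algebraMap F (AdjoinRoot f) s → a = algebraMap F (Matrix I6 I6 F) s := by
    intro s hs
    have h1 : f ∣ q - C s := by
      rw [← AdjoinRoot.mk_eq_zero, ← AdjoinRoot.aeval_eq, map_sub, aeval_C, ← hz, hs, sub_self]
    have h2' : g ∣ q - C s := minpoly.dvd F _ (by rw [map_sub, aeval_C, hzz, hs, sub_self])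
    have h3 := hcop.mul_dvd h1 h2'
    rw [hμeq] at h3
    obtain ⟨r, hr⟩ := h3
    have h4 := congrArg (aeval b) hr
    rw [map_sub, aeval_C, ← hq, map_mul, hμ, minpoly.aeval, zero_mul, sub_eq_zero] at h4
    exact h4
  rcases hz2 with h | h
  · exact Or.inl ((fin 1 (by rw [h, map_one])).trans (map_one _))
  · exact Or.inr ((fin (-1) (by rw [h, map_neg, map_one])).trans (by rw [map_neg, map_one]))

end Cfsg.Agent.Lib.SzEightGraph.Symp
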